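import Cfsg.Agent.H629.CY.Defs
import Cfsg.Agent.H968.Imc.RankThreeRat
import Cfsg.Agent.H689.EB.RowSuz

/-!
# S4829: the witness of `Suz`, `p = 3` (helper793)

* `witOR_of_r3` : rank 3, `p` divides the degree, the nontrivial constituents are odd or divisible by `p` and not linear:
  an odd rational valued witness;
* `witOR_suz` : `p ∣ 1782`, the constituent of degree 1001 of the action on the 1782 points.
-/

set_option autoImplicit false

namespace Cfsg.Agent.H793.CY

open Cfsg Cfsg.Agent.H145.BR Cfsg.Agent.Characters.Core Cfsg.Agent.H493.RatB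

universe u v

theorem witOR_congr {p : ℕ} {S : Type u} [Group S] [Finite S] {T : Type v} [Group T]
    (e : S ≃* T) (h : H629.CY.WitOR p T) : H629.CY.WitOR p S := by
  intro M hM
  obtain ⟨θ, h1, h2, h3, h4, h5⟩ := h M hM
  have hd : charDegree (fun x : S => (θ : T → ℂ) (e x)) = charDegree (θ : T → ℂ) := by
    rw [Blocks.Basic.charDegree_def, Blocks.Basic.charDegree_def, map_one]
  refine ⟨⟨_, isIrr_comp (e : S →* T) e.surjective θ.2⟩, mem_principalBlock_comp e h1, fun h5 => h2 (by
    funext y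
    obtain ⟨x, rfl⟩ := e.surjective y
    exact congrFun h5 x), ?_, ?_, fun g => h5 (e g)⟩
  · show ¬ p ∣ charDegree (fun x : S => (θ : T → ℂ) (e x))
    rwa [hd]
  · show Odd (charDegree (fun x : S => (θ : T → ℂ) (e x)))
    rwa [hd]

/-- **rank 3**, `p` divides the degree: an odd rational valued witness -/
theorem witOR_of_r3 {p : ℕ} [hp : Fact p.Prime] {G : Type u} [Group G] [Finite G] {X : Type v} [MulAction G X]
    {R : X → X → Prop} {k l : ℕ} (h : H690.Spor.RankThree.R3 G X R k l) (hd : p ∣ 1 + k + l)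
    (hc : H968.Imc.chkP k l (fun a b => (decide (a % p = 0) || decide (a % 2 = 1)) &&
      (decide (b % p = 0) || decide (b % 2 = 1))) = true) : H629.CY.WitOR p G := by
  classical
  have hX : Finite X := Nat.finite_of_card_ne_zero (by rw [h.cardn]; omega)
  have hne : Nonempty X := by
    rw [← not_isEmpty_iff]
    intro hE
    have h1 := h.cardn
    rw [Nat.card_of_isEmpty] at h1
    omega
  have htr := h.trans
  have := Fintype.ofFinite G
  obtain ⟨χ₁, χ₂, h1, h2, h3, h4⟩ := H968.Imc.exists_pair h _ hc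
  intro M hM
  obtain ⟨χ, g1, g2, g3, g4⟩ := exists_of_dvd (G := G) hM (X := X) (by rw [h.cardn]; exact hd)
  have e0 : permC G X = (fun _ => (1 : ℂ)) + (χ₁ : G → ℂ) + (χ₂ : G → ℂ) := by
    funext g
    show (Nat.card (MulAction.fixedBy X g) : ℂ) = _
    rw [h3 g]
    rfl
  have hcase : χ = χ₁ ∨ χ = χ₂ := by
    by_contra hcon
    rw [not_or] at hcon
    apply g4
    have e1 : classInner (fun _ : G => (1 : ℂ)) (χ : G → ℂ) = 0 :=
      classInner_irr_ne (H893.Sd.one G).2 χ.2 (fun h => g2 h.symm)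
    have e2 : classInner (χ₁ : G → ℂ) (χ : G → ℂ) = 0 :=
      classInner_irr_ne χ₁.2 χ.2 (fun h => hcon.1 (Subtype.ext h.symm))
    have e3 : classInner (χ₂ : G → ℂ) (χ : G → ℂ) = 0 :=
      classInner_irr_ne χ₂.2 χ.2 (fun h => hcon.2 (Subtype.ext h.symm))
    rw [e0, classInner_add_left, classInner_add_left, e1, e2, e3]
    norm_num
  rw [Bool.and_eq_true, Bool.or_eq_true, Bool.or_eq_true, decide_eq_true_eq, decide_eq_true_eq, decide_eq_true_eq,
    decide_eq_true_eq] at h4
  have key : Odd (charDegree (χ : G → ℂ)) ∧ RatV (χ : G → ℂ) := by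
    rcases hcase with rfl | rfl
    · refine ⟨?_, RatV.of_int h1⟩
      rcases h4.1 with h5 | h5
      · exact absurd (Nat.dvd_of_mod_eq_zero h5) g3
      · exact Nat.odd_iff.2 h5
    · refine ⟨?_, RatV.of_int h2⟩
      rcases h4.2 with h5 | h5
      · exact absurd (Nat.dvd_of_mod_eq_zero h5) g3
      · exact Nat.odd_iff.2 h5
  exact ⟨χ, g1, g2, g3, key.1, key.2⟩

/-- **`Suz`, `p = 3`** : degree 1001 -/
theorem witOR_suz_three {S : Type u} [Group S] (h : Spor.IsoSuz S) : H629.CY.WitOR 3 S := by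
  obtain ⟨e⟩ := h
  have h3 : Fact (Nat.Prime 3) := ⟨Nat.prime_three⟩
  have hfin : Finite Spor.Suz := Nat.finite_of_card_ne_zero (by
    rw [Cfsg.Agent.SporadicRecognition.SuzOrder.card_Suz]; norm_num)
  have : Finite S := Finite.of_equiv _ e.symm.toEquiv
  refine witOR_congr e ?_
  let _ := H689.EB.Suz.act
  exact witOR_of_r3 (H689.EB.Suz.rank3.toR3 (by norm_num) (by norm_num)) (by norm_num) (by decide +kernel)

end Cfsg.Agent.H793.CY
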